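import Cfsg.Agent.H894.EK.Gen
import Cfsg.Agent.H746.EK.Bound
import Cfsg.Agent.H580.EPX.TypeI3

/-!
# S5745, section 4: the bound (TK) for all `k` (helper82, second of helper746)
-/

set_option autoImplicit false

namespace Cfsg.Agent.H82.EK

open Subgroup Cfsg.Agent.H284 Cfsg.Agent.H209.EPX Cfsg.Agent.H59.EP Cfsg.Agent.H273.EPU Cfsg.Agent.H746.EK

variable {G : Type} [Group G] {H N : Subgroup G} {T : Type} [Group T] {k : ℕ} {e : N ≃* (Fin k → T)}

/-- **(TK)** for `k ≥ 6` -/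
theorem bound_six [Finite G] (hg : TwoGen.{0}) (h : EPS H N e) (hsch : Cfsg.Agent.Schreier.Basic.Sch T) (hk : 5 < k)
    {a : ℕ} (ha : Nat.card (MulAut T) ≤ a) (ha2 : a ≤ Nat.card T ^ 2) (hk2 : k ≤ Nat.card T ^ 2)
    (h60 : Nat.card T < 60 ^ 61) (hok : facOk (Nat.card T) = true) :
    Nat.card G ≤ Bk (Nat.card T) a k := by
  have hfin : Finite T := Finite.of_injective _ (Cfsg.Agent.H758.EPX.inj_injective e ⟨0, h.pos⟩)
  have hT1 : 1 < Nat.card T := by
    obtain ⟨x, y, hxy⟩ := h.nab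
    have : Nontrivial T := ⟨x * y, y * x, hxy⟩
    exact Finite.one_lt_card
  have hH := (Cfsg.Agent.H758.EPX.EPS.card_H_le h).trans (Nat.mul_le_mul_right _ (Nat.pow_le_pow_left ha k))
  have hr : Nat.card H < Nat.card T ^ (4 * k + 1) := by
    refine lt_of_le_of_lt hH ?_
    calc a ^ k * k.factorial ≤ (Nat.card T ^ 2) ^ k * (Nat.card T ^ 2) ^ k :=
          Nat.mul_le_mul (Nat.pow_le_pow_left ha2 k)
            ((Nat.factorial_le_pow k).trans (Nat.pow_le_pow_left hk2 k))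
      _ = Nat.card T ^ (4 * k) := by rw [← pow_mul, ← pow_add]; congr 1; ring
      _ < _ := Nat.pow_lt_pow_right hT1 (Nat.lt_succ_self _)
  have h1 := Cfsg.Agent.H580.EPX.tk_all h hsch (locK_le hg h.simple h.nab h60 hok) hr
  refine h1.trans ?_
  rw [Bk, Ik, Dk, if_neg (by omega), if_neg (by omega)]
  refine Nat.mul_le_mul (Nat.add_le_add_left (Nat.mul_le_mul_right _ ?_) 1) hH
  rw [← add_assoc]
  refine Nat.add_le_add (Nat.add_le_add_left (Nat.pow_le_pow_left (Nat.mul_le_mul_left _ ha) _) _) ?_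
  exact Nat.mul_le_mul_left _ (Nat.mul_le_mul_right _ ha)

/-- **The bound (TK).** -/
theorem bdAll (hg : TwoGen.{0}) : Cfsg.Agent.H894.EK.BdAll := by
  intro G _ _ H N T _ k e a h hsch _ ha ha2 hk2 h60 hok
  rcases le_or_gt k 5 with h5 | h5
  · exact bound_five hg h hsch h5 ha h60 hok
  · exact bound_six hg h hsch h5 ha ha2 hk2 h60 hok

end Cfsg.Agent.H82.EK
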